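/-
Irreducible components of schemes flat and locally quasi-finite over a base.
-/
import Mathlib.AlgebraicGeometry.Morphisms.QuasiFinite
import Mathlib.AlgebraicGeometry.Morphisms.UniversallyOpen

set_option autoImplicit false
universe u
open AlgebraicGeometry CategoryTheory Topology

namespace Groth.Agent.QFComp

theorem mem_irreducibleComponents_iff {X : Scheme.{u}} (x : X) :
    closure ({x} : Set X) ∈ irreducibleComponents X ↔ ∀ x' : X, x' ⤳ x → x' = x := by
  constructor
  · intro h x' hx'
    have hle : closure ({x} : Set X) ⊆ closure {x'} := specializes_iff_closure_subset.1 hx'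
    have := h.2 isIrreducible_singleton.closure hle
    exact ((specializes_iff_closure_subset.2 this).antisymm hx').symm.eq
  · intro h
    refine ⟨isIrreducible_singleton.closure, fun s hs hle => ?_⟩
    set z := hs.genericPoint
    have hz : IsGenericPoint z (closure s) := hs.isGenericPoint_genericPoint_closure
    have hxz : z ⤳ x := hz.specializes (subset_closure (hle (subset_closure rfl)))
    rw [h z hxz] at hz
    exact subset_closure.trans hz.symm.subset

variable {X Y : Scheme.{u}} (f : X ⟶ Y)

theorem eq_of_specializes [LocallyQuasiFinite f] {x x' : X} (h : x' ⤳ x) (he : f x' = f x) :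
    x' = x := by
  have hd := f.isDiscrete_preimage_singleton (f x)
  let a : (f ⁻¹' {f x} : Set X) := ⟨x', he⟩
  let b : (f ⁻¹' {f x} : Set X) := ⟨x, rfl⟩
  have hab : a ⤳ b := subtype_specializes_iff _ _ |>.2 h
  have := hd.to_subtype
  have : a = b := specializes_iff_eq.1 hab
  exact congrArg Subtype.val this

theorem maximal_image [Flat f] {x : X} (hx : ∀ x' : X, x' ⤳ x → x' = x) :
    ∀ y : Y, y ⤳ f x → y = f x := by
  intro y hy
  obtain ⟨x', hx', rfl⟩ := Flat.generalizingMap f hy
  rw [hx x' hx']

theorem isIrreducibleComponent_iff [IrreducibleSpace Y] [Flat f] [LocallyQuasiFinite f] (x : X) :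
    f x = genericPoint Y ↔ closure ({x} : Set X) ∈ irreducibleComponents X := by
  rw [mem_irreducibleComponents_iff]
  constructor
  · intro hx x' hx'
    refine eq_of_specializes f hx' ?_
    have h1 : f x' ⤳ f x := hx'.map f.continuous
    exact (h1.antisymm (by rw [hx] at h1 ⊢; exact genericPoint_specializes _)).eq
  · intro hx
    exact (maximal_image f hx _ (genericPoint_specializes _)).symm

theorem locallyFinite_components [Flat f] [LocallyQuasiFinite f]
    (hY : LocallyFinite (fun Z : irreducibleComponents Y => (Z : Set Y))) :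
    LocallyFinite (fun Z : irreducibleComponents X => (Z : Set X)) := by
  intro x
  obtain ⟨T, hT, hfin⟩ := hY (f x)
  obtain ⟨T', hT'T, hT'o, hxT'⟩ := mem_nhds_iff.1 hT
  obtain ⟨_, ⟨(W : Y.Opens), hW, rfl⟩, hxW, hWT⟩ := Y.isBasis_affineOpens.exists_subset_of_mem_open hxT' hT'o
  obtain ⟨_, ⟨(V : X.Opens), hV, rfl⟩, hxV, hVW⟩ :=
    X.isBasis_affineOpens.exists_subset_of_mem_open (show x ∈ f ⁻¹ᵁ W from hxW) (f ⁻¹ᵁ W).2
  refine ⟨V, V.2.mem_nhds hxV, ?_⟩
  have : IsAffine (Scheme.Opens.toScheme V) := hV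
  have : IsAffine (Scheme.Opens.toScheme W) := hW
  let g := f.resLE W V hVW
  have hmax : ∀ Z : irreducibleComponents X, ((Z : Set X) ∩ V).Nonempty →
      ∃ z ∈ V, closure ({z} : Set X) = Z := by
    intro Z ⟨a, haZ, haV⟩
    have hirr : IsIrreducible (Z : Set X) := Z.2.1
    have hcl : IsClosed (Z : Set X) := isClosed_of_mem_irreducibleComponents _ Z.2
    have hz := hirr.isGenericPoint_genericPoint_closure
    rw [hcl.closure_eq] at hz
    exact ⟨hirr.genericPoint, (hz.specializes haZ).mem_open V.2 haV, hz⟩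
  have : Nonempty X := ⟨x⟩
  choose! z hzV hz using hmax
  -- generic points of components meeting `W`
  let G : Set (Scheme.Opens.toScheme W) := {w | ∀ y : Y, y ⤳ W.ι w → y = W.ι w}
  have hG : G.Finite := by
    have hsub : ∀ w ∈ G, closure ({W.ι w} : Set Y) ∈ irreducibleComponents Y := fun w hw =>
      (mem_irreducibleComponents_iff _).2 hw
    refine Set.Finite.of_finite_image (f := fun w : Scheme.Opens.toScheme W => closure ({W.ι w} : Set Y)) ?_ ?_
    · refine (hfin.image Subtype.val).subset ?_
      rintro _ ⟨w, hw, rfl⟩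
      exact ⟨⟨_, hsub w hw⟩, ⟨W.ι w, subset_closure rfl, hT'T (hWT w.2)⟩, rfl⟩
    · intro a _ b _ hab
      exact Subtype.ext ((specializes_iff_closure_subset.2 hab.ge).antisymm
        (specializes_iff_closure_subset.2 hab.le)).eq
  have hfibre : (g ⁻¹' G).Finite := g.finite_preimage hG
  refine Set.Finite.of_finite_image (f := z) ((hfibre.image (Scheme.Opens.ι V)).subset ?_) ?_
  · rintro _ ⟨Z, hZ, rfl⟩
    refine ⟨⟨z Z, hzV Z hZ⟩, ?_, rfl⟩
    show g ⟨z Z, hzV Z hZ⟩ ∈ G
    have hzc : ∀ x' : X, x' ⤳ z Z → x' = z Z :=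
      (mem_irreducibleComponents_iff _).1 ((hz Z hZ).symm ▸ Z.2)
    have he : W.ι (g ⟨z Z, hzV Z hZ⟩) = f (z Z) :=
      congrArg (fun h => h ⟨z Z, hzV Z hZ⟩) (f.resLE_comp_ι hVW)
    intro y hy
    rw [he] at hy ⊢
    exact maximal_image f hzc y hy
  · intro a ha b hb hab
    apply Subtype.ext
    rw [← hz a ha, ← hz b hb, hab]

end Groth.Agent.QFComp
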